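import Cfsg.Agent.H43.InvSub.Stmts
import Cfsg.Agent.H7.PActFStar
import Cfsg.Agent.H10.PSolvable

/-!
Lifting of inverted elements, the cover of `F*`, and 2-subgroups normalised by it.
-/

set_option autoImplicit false
set_option linter.style.haveILetI false

namespace H53.InvSub

open H43.InvSub

universe u

theorem inv_comm {G : Type u} [Group G] {t : G} (ht : t * t = 1) (x : G) :
    t * (x * t * x⁻¹ * t⁻¹) * t⁻¹ = (x * t * x⁻¹ * t⁻¹)⁻¹ := by
  have hi : t⁻¹ = t := inv_eq_of_mul_eq_one_right ht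
  simp only [_root_.mul_inv_rev, inv_inv, hi, mul_assoc, ht, mul_one]

/-- An odd-order commutator with `t` splits off an inverted element. -/
theorem mem_closure {G : Type u} [Group G] [Finite G] {t : G} (ht : t * t = 1) {x : G}
    (hc : Odd (orderOf (x * t * x⁻¹ * t⁻¹))) :
    x ∈ Subgroup.closure (invSet t ∪ (Subgroup.centralizer ({t} : Set G) : Set G)) := by
  set c := x * t * x⁻¹ * t⁻¹ with hcdef
  obtain ⟨k, hk⟩ := hc
  set d := c ^ (k + 1) with hd
  have hdd : d * d = c := by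
    rw [hd, ← pow_add, show k + 1 + (k + 1) = orderOf c + 1 by omega, pow_succ, pow_orderOf_eq_one,
      one_mul]
  have hdi : t * d * t⁻¹ = d⁻¹ := by rw [hd, ← conj_pow, inv_comm ht, inv_pow]
  have hd1 : d ∈ invSet t :=
    ⟨Odd.of_dvd_nat ⟨k, hk⟩ (orderOf_pow_dvd _), hdi⟩
  have hx : d⁻¹ * x ∈ Subgroup.centralizer ({t} : Set G) := by
    rw [Subgroup.mem_centralizer_singleton_iff, ← mul_inv_eq_iff_eq_mul]
    calc d⁻¹ * x * t * (d⁻¹ * x)⁻¹ = d⁻¹ * (c * t) * d := by rw [hcdef]; group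
      _ = d⁻¹ * (d * d * t) * d := by rw [hdd]
      _ = d * (t * d * t⁻¹) * t := by group
      _ = t := by rw [hdi, mul_inv_cancel, one_mul]
  have := mul_mem
    (Subgroup.subset_closure (Set.mem_union_left (Subgroup.centralizer ({t} : Set G) : Set G) hd1))
    (Subgroup.subset_closure (Set.mem_union_right (invSet t) hx))
  rwa [mul_inv_cancel_left] at this

theorem lift : LiftStmt.{u} := by
  intro A B _ _ _ f hf t ht y hy
  obtain ⟨⟨m, hm⟩, hinv⟩ := hy
  obtain ⟨x, hx⟩ := hf (y ^ (m + 1))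
  set v := x * t * x⁻¹ * t⁻¹ with hv
  have hzi : f t * (y ^ (m + 1)) * (f t)⁻¹ = (y ^ (m + 1))⁻¹ := by
    rw [← conj_pow, hinv, inv_pow]
  have hfv : f v = y := by
    rw [hv, map_mul, map_mul, map_mul, map_inv, map_inv, hx]
    calc y ^ (m + 1) * f t * (y ^ (m + 1))⁻¹ * (f t)⁻¹
        = y ^ (m + 1) * (f t * y ^ (m + 1) * (f t)⁻¹)⁻¹ := by group
      _ = y ^ (m + 1) * y ^ (m + 1) := by rw [hzi, inv_inv]
      _ = y := by
        rw [← pow_add, show m + 1 + (m + 1) = orderOf y + 1 by omega, pow_succ, pow_orderOf_eq_one,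
          one_mul]
  set n := orderOf v with hn
  have hn0 : n ≠ 0 := (orderOf_pos v).ne'
  obtain ⟨a, b, hb, hab⟩ := Nat.exists_eq_pow_mul_and_not_dvd hn0 2 (by norm_num)
  have hbodd : Odd b := Nat.odd_iff.2 (by omega)
  obtain ⟨k, hk0, hk1⟩ := Nat.chineseRemainder
    ((Nat.Coprime.pow_left a (Nat.coprime_two_left.2 hbodd)) : (2 ^ a).Coprime b) 0 1
  refine ⟨v ^ k, ⟨Odd.of_dvd_nat hbodd (orderOf_dvd_of_pow_eq_one ?_), ?_⟩, ?_⟩
  · obtain ⟨q, hq⟩ := Nat.modEq_zero_iff_dvd.1 hk0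
    rw [← pow_mul, show k * b = n * q by rw [hab, hq]; ring, pow_mul, hn, pow_orderOf_eq_one,
      one_pow]
  · rw [← conj_pow, inv_comm ht, inv_pow]
  · have hdn : orderOf y ∣ b := by
      have h1 : orderOf y ∣ 2 ^ a * b := hab ▸ hfv ▸ orderOf_map_dvd f v
      exact ((Nat.coprime_two_right.2 ⟨m, hm⟩).pow_right a).dvd_of_dvd_mul_left h1
    rw [map_pow, hfv]
    conv_rhs => rw [← pow_one y]
    rw [pow_eq_pow_iff_modEq]
    exact hk1.of_dvd hdn

theorem cover : CoverStmt.{u} := by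
  intro G _ _ hS t ht
  set J := Subgroup.closure (invSet t ∪ (Subgroup.centralizer ({t} : Set G) : Set G)) with hJ
  refine sup_le ?_ ?_
  · rw [Cfsg.Comp.layer_le_iff]
    intro L hL
    refine le_trans ?_ le_sup_right
    by_cases h1 : t = 1
    · intro x _
      refine Subgroup.subset_closure (Or.inr ?_)
      rw [SetLike.mem_coe, Subgroup.mem_centralizer_singleton_iff, h1, one_mul, mul_one]
    · have hs := hS t (orderOf_eq_prime (by rw [pow_two, ht]) h1)
      rcases Cfsg.Comp.component_le_or_commute hL hs with h | h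
      · refine h.trans ((Subgroup.closure_le _).2 ?_)
        rintro x (rfl | hx)
        · exact Subgroup.subset_closure (Or.inr (Subgroup.mem_centralizer_singleton_iff.2 rfl))
        · exact Subgroup.subset_closure (Or.inl hx)
      · intro x hx
        refine Subgroup.subset_closure (Or.inr (Subgroup.mem_centralizer_singleton_iff.2 ?_))
        exact Cfsg.Comp.commute_of_commutator_eq_bot h hx
          (Subgroup.subset_closure (Set.mem_insert _ _))
  · rw [Cfsg.Comp.fitting_eq_iSup_pCore]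
    refine iSup_le fun q => ?_
    haveI := Fact.mk q.2
    by_cases h2 : (q : ℕ) = 2
    · rw [h2]; exact le_sup_left
    · intro x hx
      refine Subgroup.mem_sup_right (mem_closure ht ?_)
      have hn : (Cfsg.pCore (q : ℕ) G).Normal := inferInstance
      have hc : x * t * x⁻¹ * t⁻¹ ∈ Cfsg.pCore (q : ℕ) G := by
        have := mul_mem hx (hn.conj_mem _ (inv_mem hx) t)
        simpa [mul_assoc] using this
      obtain ⟨j, hj⟩ := (Cfsg.Comp.pCore_isPGroup (G := G) (q : ℕ)) ⟨_, hc⟩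
      refine Odd.of_dvd_nat ((q.2.odd_of_ne_two h2).pow (n := j))
        (orderOf_dvd_of_pow_eq_one ?_)
      exact congrArg Subtype.val hj

theorem twoLeCore : TwoLeCoreStmt.{u} := by
  intro G _ _ H d hsm hd hdd R hRH hR hN
  haveI : Fact (Nat.Prime 2) := ⟨Nat.prime_two⟩
  let f := QuotientGroup.mk' (Cfsg.pCore 2 H)
  have hf : Function.Surjective f := QuotientGroup.mk'_surjective _
  let dh : H := ⟨d, hd⟩
  have hdh : dh * dh = 1 := Subtype.ext hdd
  have hQ : Cfsg.pCore 2 (H ⧸ Cfsg.pCore 2 H) = ⊥ := H10.pCore_quotient_pCore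
  have hle : Cfsg.generalizedFittingSubgroup (H ⧸ Cfsg.pCore 2 H) ≤
      Subgroup.normalizer (((R.subgroupOf H).map f : Subgroup _) : Set _) := by
    refine (cover (hsm _ (Nat.le_of_dvd Nat.card_pos (Subgroup.card_quotient_dvd_card _))) (f dh)
      (by rw [← map_mul, hdh, map_one])).trans ?_
    rw [hQ, bot_sup_eq, Subgroup.closure_le]
    have hn : ∀ w : H, (w : G) ∈ coverSub H d →
        f w ∈ Subgroup.normalizer (((R.subgroupOf H).map f : Subgroup _) : Set _) := by
      intro w hw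
      refine Subgroup.le_normalizer_map f (Subgroup.mem_map_of_mem f ?_)
      rw [Subgroup.mem_normalizer_iff]
      intro r
      simp only [Subgroup.mem_subgroupOf]
      exact Subgroup.mem_normalizer_iff.1 (hN hw) r
    rintro y (hy | hy)
    · obtain ⟨x, ⟨hx1, hx2⟩, rfl⟩ := lift f hf dh hdh y hy
      refine hn x (Subgroup.subset_closure (Or.inl ⟨⟨?_, ?_⟩, x.2⟩))
      · rwa [Subgroup.orderOf_coe]
      · exact congrArg Subtype.val hx2
    · obtain ⟨w, rfl⟩ := hf y
      refine hn w (Subgroup.subset_closure (Or.inr ⟨w.2, ?_⟩))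
      refine ⟨w * dh * w⁻¹ * dh⁻¹, ?_, rfl⟩
      rw [SetLike.mem_coe, ← QuotientGroup.eq_one_iff]
      show f (w * dh * w⁻¹ * dh⁻¹) = 1
      rw [map_mul, map_mul, map_mul, map_inv, map_inv,
        Subgroup.mem_centralizer_singleton_iff.1 hy, mul_inv_cancel_right, mul_inv_cancel]
  set F := Cfsg.generalizedFittingSubgroup (H ⧸ Cfsg.pCore 2 H)
  set Rb := (R.subgroupOf H).map f with hRb
  have hRbp : IsPGroup 2 Rb :=
    (hR.of_equiv (Subgroup.subgroupOfEquivOfLe hRH).symm).map f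
  have hFn : F.Normal := inferInstance
  have hI : Rb ⊓ F ≤ Cfsg.pCore 2 (H ⧸ Cfsg.pCore 2 H) := by
    refine Cfsg.Comp.le_pCore_of_subnormal ?_ (hRbp.to_le inf_le_left)
    refine Subgroup.IsSubnormal.step _ _ inf_le_right hFn.isSubnormal
      (Subgroup.normal_subgroupOf_of_le_normalizer ?_)
    exact Cfsg.Comp.inf_le_normalizer hle Subgroup.le_normalizer
  have hbot : Rb = ⊥ := by
    refine H7.eq_bot_of_commutator_fStar hQ hRbp (le_bot_iff.1 (le_trans ?_ (hI.trans hQ.le)))
    rw [Subgroup.commutator_le]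
    intro g hg r hr
    rw [commutatorElement_def]
    refine Subgroup.mem_inf.2 ⟨mul_mem ?_ (inv_mem hr), ?_⟩
    · exact (Subgroup.mem_normalizer_iff.1 (hle hg) r).1 hr
    · have := mul_mem hg (hFn.conj_mem _ (inv_mem hg) r)
      simpa [mul_assoc] using this
  intro r hr
  refine ⟨⟨r, hRH hr⟩, ?_, rfl⟩
  have h1 : f ⟨r, hRH hr⟩ ∈ Rb := Subgroup.mem_map_of_mem f (show (⟨r, hRH hr⟩ : H) ∈ R.subgroupOf H from hr)
  rw [hbot, Subgroup.mem_bot] at h1
  exact (QuotientGroup.eq_one_iff _).1 h1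

end H53.InvSub
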