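import Cfsg.Agent.H43.InvSub.Stmts
import Cfsg.Agent.H43.InvSub.Basic

/-!
Connectedness of the odd-product graph on a class of involutions of a simple group.
-/

set_option autoImplicit false

namespace H53.InvSub

open H43.InvSub

universe u

/-- Conjugation acts on the odd-product graph. -/
theorem reachable_conj {G : Type u} [Group G] {t : G} (g : G) {a b : {x : G // IsConj t x}}
    (h : (SimpleGraph.fromRel fun x y : {x : G // IsConj t x} =>
      Odd (orderOf (x.1 * y.1))).Reachable a b) :
    (SimpleGraph.fromRel fun x y : {x : G // IsConj t x} =>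
      Odd (orderOf (x.1 * y.1))).Reachable
      ⟨g * a.1 * g⁻¹, a.2.trans (isConj_iff.2 ⟨g, rfl⟩)⟩
      ⟨g * b.1 * g⁻¹, b.2.trans (isConj_iff.2 ⟨g, rfl⟩)⟩ := by
  refine h.map (G' := SimpleGraph.fromRel fun x y : {x : G // IsConj t x} =>
    Odd (orderOf (x.1 * y.1)))
    ⟨fun x => ⟨g * x.1 * g⁻¹, x.2.trans (isConj_iff.2 ⟨g, rfl⟩)⟩, fun {x y} hxy => ?_⟩
  rw [SimpleGraph.fromRel_adj] at hxy ⊢
  refine ⟨fun e => hxy.1 (Subtype.ext ?_), ?_⟩
  · simpa using congrArg Subtype.val e
  · have e : ∀ u v : G, orderOf (g * u * g⁻¹ * (g * v * g⁻¹)) = orderOf (u * v) := fun u v => by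
      rw [show g * u * g⁻¹ * (g * v * g⁻¹) = MulAut.conj g (u * v) by simp [mul_assoc],
        MulEquiv.orderOf_eq]
    simpa only [e] using hxy.2

theorem graph : GraphStmt.{u} := by
  intro hM G _ _ _ _ t ht
  have ht2 := mul_self_of_orderOf_two ht
  set Γ := SimpleGraph.fromRel fun x y : {x : G // IsConj t x} => Odd (orderOf (x.1 * y.1))
  let t0 : {x : G // IsConj t x} := ⟨t, IsConj.refl t⟩
  let P : G → Prop := fun g => Γ.Reachable t0 ⟨g * t * g⁻¹, isConj_iff.2 ⟨g, rfl⟩⟩
  have hmul : ∀ g h, P g → P h → P (g * h) := by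
    intro g h hg hh
    refine hg.trans ?_
    convert reachable_conj g hh using 2
    simp [mul_assoc]
  have hone : P 1 := by
    show Γ.Reachable t0 _
    convert SimpleGraph.Reachable.refl (G := Γ) t0 using 2
    simp
  have hpow : ∀ g, P g → ∀ k : ℕ, P (g ^ k) := by
    intro g hg k
    induction k with
    | zero => rw [pow_zero]; exact hone
    | succ k ih => rw [pow_succ]; exact hmul _ _ ih hg
  let S : Subgroup G :=
    { carrier := {g | P g}
      one_mem' := hone
      mul_mem' := fun {g h} => hmul g h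
      inv_mem' := fun {g} hg => by
        have e : g⁻¹ = g ^ (orderOf g - 1) := by
          refine inv_eq_of_mul_eq_one_right ?_
          rw [← pow_succ', Nat.sub_add_cancel (orderOf_pos g), pow_orderOf_eq_one]
        show P g⁻¹
        rw [e]
        exact hpow g hg _ }
  have hle : tSub t ≤ S := by
    refine tSub_le_iff.2 ⟨?_, fun y hy => ?_⟩
    · show Γ.Reachable t0 _
      convert SimpleGraph.Reachable.refl (G := Γ) t0 using 2
      simp
    · show Γ.Reachable t0 _
      by_cases h : (⟨y * t * y⁻¹, isConj_iff.2 ⟨y, rfl⟩⟩ : {x : G // IsConj t x}) = t0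
      · rw [h]
      · refine SimpleGraph.Adj.reachable ?_
        rw [SimpleGraph.fromRel_adj]
        refine ⟨Ne.symm h, Or.inl ?_⟩
        show Odd (orderOf (t * (y * t * y⁻¹)))
        have e : t * (y * t * y⁻¹) = (y * y)⁻¹ := by
          rw [mul_self_eq_conj_mul ht2 hy.2]
          simp [mul_assoc, inv_eq_self_of_orderOf_two ht]
        rw [e, orderOf_inv, ← pow_two]
        exact Odd.of_dvd_nat hy.1 (orderOf_pow_dvd 2)
  have htop : tSub t = ⊤ := by
    rcases Subgroup.IsSubnormal.eq_bot_or_top_of_isSimpleGroup inferInstance (hM G t ht) with h | h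
    · exfalso
      have h1 : t = 1 := Subgroup.mem_bot.1 (h ▸ mem_tSub_self t)
      rw [h1, orderOf_one] at ht
      exact absurd ht (by norm_num)
    · exact h
  have hall : ∀ g, P g := fun g => hle (htop ▸ Subgroup.mem_top g)
  have hcl : ∀ x, Γ.Reachable t0 x := by
    rintro ⟨x, hx⟩
    obtain ⟨g, rfl⟩ := isConj_iff.1 hx
    exact hall g
  exact { preconnected := fun a b => (hcl a).symm.trans (hcl b), nonempty := ⟨t0⟩ }

end H53.InvSub
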